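/-
Two elementary abelian subgroups of order 16 with a common Sylow 2-subgroup in a CIT group.

* `Frame`          : the data
* `Frame.mem_or`   : every involution of `T` lies in `D` or `E`
* `Frame.N_T_le`   : the normaliser of `T` normalises `D`
* `Frame.not_conj` : `D` and `E` are not conjugate
* `Frame.relIndex_B` : `T` has five conjugates in `N(D)`
* `Frame.exists_mem_Z` : every element of `D` is central in one of them
-/
import Cfsg.Agent.EqLemmas
import Cfsg.Agent.Lib.CIT.Basic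

set_option autoImplicit false

open Cfsg

namespace Cfsg.Agent.CITPlane

/-- The data. -/
structure Frame (G : Type*) [Group G] where
  /-- The point subgroup. -/
  D : Subgroup G
  /-- The line subgroup. -/
  E : Subgroup G
  /-- The common Sylow 2-subgroup. -/
  T : Subgroup G
  cit : CIT.IsCIT G
  sylow : ∃ S : Sylow 2 G, (S : Subgroup G) = T
  card_D : Nat.card D = 16
  card_E : Nat.card E = 16
  card_T : Nat.card T = 64
  card_inf : Nat.card ↥(D ⊓ E) = 4
  sq_D : ∀ x ∈ D, x * x = 1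
  sq_E : ∀ x ∈ E, x * x = 1
  D_le : D ≤ T
  E_le : E ≤ T
  T_le_D : T ≤ Subgroup.normalizer (D : Set G)
  T_le_E : T ≤ Subgroup.normalizer (E : Set G)
  fix_D : ∀ a ∈ T, a ∉ D → ∀ d ∈ D, a * d = d * a → d ∈ E
  fix_E : ∀ a ∈ T, a ∉ E → ∀ e ∈ E, a * e = e * a → e ∈ D
  comm : ∀ z ∈ D, z ∈ E → ∀ t ∈ T, t * z = z * t
  card_N_D : Nat.card (Subgroup.normalizer (D : Set G)) = 960
  card_N_E : Nat.card (Subgroup.normalizer (E : Set G)) = 960
  not_normal_D : ¬ Subgroup.normalizer (D : Set G) ≤ Subgroup.normalizer (T : Set G)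
  not_normal_E : ¬ Subgroup.normalizer (E : Set G) ≤ Subgroup.normalizer (T : Set G)

namespace Frame

variable {G : Type*} [Group G] (F : Frame G)

/-- Interchanging `D` and `E`. -/
def swap : Frame G where
  D := F.E
  E := F.D
  T := F.T
  cit := F.cit
  sylow := F.sylow
  card_D := F.card_E
  card_E := F.card_D
  card_T := F.card_T
  card_inf := by rw [inf_comm]; exact F.card_inf
  sq_D := F.sq_E
  sq_E := F.sq_D
  D_le := F.E_le
  E_le := F.D_le
  T_le_D := F.T_le_E
  T_le_E := F.T_le_D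
  fix_D := F.fix_E
  fix_E := F.fix_D
  comm := fun z h1 h2 => F.comm z h2 h1
  card_N_D := F.card_N_E
  card_N_E := F.card_N_D
  not_normal_D := F.not_normal_E
  not_normal_E := F.not_normal_D

@[simp] theorem swap_D : F.swap.D = F.E := rfl
@[simp] theorem swap_E : F.swap.E = F.D := rfl
@[simp] theorem swap_T : F.swap.T = F.T := rfl

/-- The point stabiliser. -/
abbrev ND : Subgroup G := Subgroup.normalizer (F.D : Set G)

/-- The line stabiliser. -/
abbrev NE : Subgroup G := Subgroup.normalizer (F.E : Set G)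

/-- The flag stabiliser. -/
def B : Subgroup G := F.ND ⊓ F.NE

/-- The centre of `T`. -/
def Z : Subgroup G := F.D ⊓ F.E

theorem card_Z : Nat.card F.Z = 4 := F.card_inf

theorem conj_mem_normalizer {H : Subgroup G} {g x : G} (hg : g ∈ Subgroup.normalizer (H : Set G))
    (hx : x ∈ H) : g * x * g⁻¹ ∈ H :=
  (Subgroup.mem_normalizer_iff.1 hg x).1 hx

theorem conj_mem_Z {g z : G} (hg : g ∈ F.B) (hz : z ∈ F.Z) : g * z * g⁻¹ ∈ F.Z :=
  ⟨conj_mem_normalizer hg.1 hz.1, conj_mem_normalizer hg.2 hz.2⟩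

variable [Finite G]

omit [Finite G] in
theorem T_two : IsPGroup 2 F.T := by
  obtain ⟨S, hS⟩ := F.sylow
  exact hS ▸ S.isPGroup'

theorem eq_T {P : Subgroup G} (hP : IsPGroup 2 P) (hle : F.T ≤ P) : P = F.T := by
  obtain ⟨S, hS⟩ := F.sylow
  exact (S.is_maximal' hP (hS ▸ hle)).trans hS

theorem mem_T_of_two {x : G} (hn : x ∈ Subgroup.normalizer (F.T : Set G)) (hx : IsPGroup 2 (Subgroup.zpowers x)) :
    x ∈ F.T :=
  (F.eq_T (hx.to_sup_of_normal_right' F.T_two (Subgroup.zpowers_le.2 hn)) le_sup_right).le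
    (Subgroup.mem_sup_left (Subgroup.mem_zpowers x))

theorem T_eq_sup : F.T = F.D ⊔ F.E := by
  symm
  refine Subgroup.eq_of_le_of_card_ge (sup_le F.D_le F.E_le) ?_
  have h1 := Subgroup.relIndex_mul_relIndex ⊥ F.D (F.D ⊔ F.E) bot_le le_sup_left
  have h2 : F.D.relIndex F.E = 4 := by
    have h := Subgroup.relIndex_mul_relIndex ⊥ (F.D ⊓ F.E) F.E bot_le inf_le_right
    rw [Subgroup.relIndex_bot_left, Subgroup.relIndex_bot_left, F.card_inf, F.card_E,
      Subgroup.inf_relIndex_right] at h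
    omega
  have h3 : F.D.relIndex F.E ≤ F.D.relIndex (F.D ⊔ F.E) :=
    Subgroup.relIndex_le_of_le_right le_sup_right Subgroup.FiniteIndex.index_ne_zero
  rw [Subgroup.relIndex_bot_left, Subgroup.relIndex_bot_left, F.card_D] at h1
  rw [F.card_T]
  omega

omit [Finite G] in
theorem mul_eq' {t : G} (ht : t ∈ F.D ⊔ F.E) : ∃ d ∈ F.D, ∃ e ∈ F.E, d * e = t := by
  have h := Subgroup.coe_mul_of_left_le_normalizer_right F.D F.E (F.D_le.trans F.T_le_E)
  have ht' : t ∈ ((F.D ⊔ F.E : Subgroup G) : Set G) := ht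
  rw [h, Set.mem_mul] at ht'
  exact ht'

/-- Every involution of `T` lies in `D` or in `E`. -/
theorem mem_or {t : G} (ht : t ∈ F.T) (h2 : t * t = 1) : t ∈ F.D ∨ t ∈ F.E := by
  obtain ⟨d, hd, e, he, rfl⟩ := F.mul_eq' (F.T_eq_sup ▸ ht)
  by_cases hdE : d ∈ F.E
  · exact Or.inr (F.E.mul_mem hdE he)
  have hc : d * e = e * d := by
    calc d * e = (d * d) * (d * e) * (e * e) := by rw [F.sq_D d hd, F.sq_E e he, one_mul, mul_one]
      _ = d * (d * (d * e) * e) * e := by group
      _ = (d * e)⁻¹ := by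
        have h3 : d * (d * e) * e = (d * d) * (e * e) := by group
        rw [h3, F.sq_D d hd, F.sq_E e he, one_mul, mul_one]
        exact (inv_eq_of_mul_eq_one_right h2).symm
      _ = e * d := by
        rw [mul_inv_rev, inv_eq_of_mul_eq_one_right (F.sq_D d hd), inv_eq_of_mul_eq_one_right (F.sq_E e he)]
  exact Or.inl (F.D.mul_mem hd (F.fix_E d (F.D_le hd) hdE e he hc))

/-- The only elementary abelian subgroups of order 16 of `T`. -/
theorem eq_or {H : Subgroup G} (hH : H ≤ F.T) (h2 : ∀ x ∈ H, x * x = 1) (hc : Nat.card H = 16) :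
    H = F.D ∨ H = F.E := by
  by_cases hD : H ≤ F.D
  · exact Or.inl (Subgroup.eq_of_le_of_card_ge hD (by rw [hc, F.card_D]))
  by_cases hE : H ≤ F.E
  · exact Or.inr (Subgroup.eq_of_le_of_card_ge hE (by rw [hc, F.card_E]))
  exfalso
  obtain ⟨a, ha, haD⟩ := SetLike.not_le_iff_exists.1 hD
  obtain ⟨b, hb, hbE⟩ := SetLike.not_le_iff_exists.1 hE
  have haE := (F.mem_or (hH ha) (h2 a ha)).resolve_left haD
  have hbD := (F.mem_or (hH hb) (h2 b hb)).resolve_right hbE
  rcases F.mem_or (hH (H.mul_mem ha hb)) (h2 _ (H.mul_mem ha hb)) with h | h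
  · exact haD ((Subgroup.mul_mem_cancel_right _ hbD).1 h)
  · exact hbE ((Subgroup.mul_mem_cancel_left _ haE).1 h)

/-- The normaliser of `T` normalises `D`. -/
theorem N_T_le : Subgroup.normalizer (F.T : Set G) ≤ F.ND := by
  intro g hg
  have himg : ∀ x ∈ Subgroup.normalizer (F.T : Set G),
      ∀ H : Subgroup G, H ≤ F.T → (∀ y ∈ H, y * y = 1) → Nat.card H = 16 →
      H.map (MulAut.conj x).toMonoidHom = F.D ∨ H.map (MulAut.conj x).toMonoidHom = F.E := by
    intro x hx H hH h2 hc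
    refine F.eq_or ?_ ?_ ?_
    · rintro _ ⟨y, hy, rfl⟩
      exact conj_mem_normalizer hx (hH hy)
    · rintro _ ⟨y, hy, rfl⟩
      rw [← map_mul, h2 y hy, map_one]
    · rw [Subgroup.card_map_of_injective (MulAut.conj x).injective, hc]
  rw [Subgroup.mem_normalizer_iff_map_conj_eq]
  rcases himg g hg F.D F.D_le F.sq_D F.card_D with h | h
  · exact h
  rcases himg g hg F.E F.E_le F.sq_E F.card_E with h' | h'
  swap
  · have e := Subgroup.map_injective (MulAut.conj g).injective (h.trans h'.symm)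
    exact h.trans e.symm
  -- `g * g` normalises `D`
  have hgg : g * g ∈ F.ND := by
    rw [Subgroup.mem_normalizer_iff_map_conj_eq]
    conv_rhs => rw [← h', ← h, Subgroup.map_map]
    congr 1
    ext y
    simp [mul_assoc]
  obtain ⟨a, m, hm, ho⟩ := Nat.exists_eq_two_pow_mul_odd (orderOf_pos g).ne'
  have hgm : g ^ m ∈ F.T := F.mem_T_of_two (pow_mem hg m) (IsPGroup.of_card (n := a) (by
    rw [Nat.card_zpowers, orderOf_pow' g hm.pos.ne', ho, Nat.gcd_mul_left_left, Nat.mul_div_cancel _ hm.pos]))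
  obtain ⟨j, rfl⟩ := hm
  have := F.T_le_D hgm
  rw [pow_succ', pow_mul, pow_two] at this
  exact Subgroup.mem_normalizer_iff_map_conj_eq.1 ((Subgroup.mul_mem_cancel_right _ (pow_mem hgg j)).1 this)

theorem N_T_eq : Subgroup.normalizer (F.T : Set G) = F.B := by
  refine le_antisymm (le_inf F.N_T_le F.swap.N_T_le) fun g hg => ?_
  rw [Subgroup.mem_normalizer_iff_map_conj_eq, F.T_eq_sup, Subgroup.map_sup,
    Subgroup.mem_normalizer_iff_map_conj_eq.1 hg.1, Subgroup.mem_normalizer_iff_map_conj_eq.1 hg.2]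

theorem T_le_B : F.T ≤ F.B := le_inf F.T_le_D F.T_le_E

omit [Finite G] in
/-- A conjugate of `T` is again a Sylow 2-subgroup. -/
theorem sylow_conj (g : G) : ∃ S : Sylow 2 G, (S : Subgroup G) = F.T.map (MulAut.conj g).toMonoidHom := by
  obtain ⟨S, hS⟩ := F.sylow
  exact ⟨g • S, by rw [← hS]; rfl⟩

omit [Finite G] in
/-- Two Sylow 2-subgroups inside `K` are conjugate in `K`. -/
theorem conj_in [Finite G] {K : Subgroup G} (S S' : Sylow 2 G) (hS : (S : Subgroup G) ≤ K) (hS' : (S' : Subgroup G) ≤ K) :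
    ∃ k ∈ K, (S : Subgroup G).map (MulAut.conj k).toMonoidHom = S' := by
  haveI : Fact (Nat.Prime 2) := ⟨Nat.prime_two⟩
  obtain ⟨k, hk⟩ := MulAction.exists_smul_eq K (S.subtype hS) (S'.subtype hS')
  rw [Sylow.smul_subtype] at hk
  refine ⟨k, k.2, ?_⟩
  have h := congrArg (fun P : Sylow 2 G => (P : Subgroup G)) (Sylow.subtype_injective hk)
  exact h

/-- A 2-subgroup of `N(D)` lies in a conjugate of `T` inside it. -/
theorem exists_T_ge {P : Subgroup G} (hP : IsPGroup 2 P) (hPN : P ≤ F.ND) :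
    ∃ g ∈ F.ND, P ≤ F.T.map (MulAut.conj g).toMonoidHom := by
  haveI : Fact (Nat.Prime 2) := ⟨Nat.prime_two⟩
  obtain ⟨S, hS⟩ := F.sylow
  obtain ⟨R, hR⟩ := (hP.comap_subtype (K := F.ND)).exists_le_sylow
  obtain ⟨g, hg⟩ := MulAction.exists_smul_eq F.ND (S.subtype (hS.le.trans F.T_le_D)) R
  refine ⟨g, g.2, fun x hx => ?_⟩
  have hxR : (⟨x, hPN hx⟩ : F.ND) ∈ (R : Subgroup F.ND) := hR hx
  rw [← hg, Sylow.smul_subtype] at hxR
  rw [← hS]
  exact hxR

/-- `D` and `E` are not conjugate. -/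
theorem not_conj (g : G) : F.D.map (MulAut.conj g).toMonoidHom ≠ F.E := by
  intro h
  obtain ⟨S, hS⟩ := F.sylow_conj g
  obtain ⟨S₀, hS₀⟩ := F.sylow
  have hSE : (S : Subgroup G) ≤ F.NE := by
    rw [hS]
    rintro _ ⟨t, ht, rfl⟩
    rw [Subgroup.mem_normalizer_iff_map_conj_eq]
    conv_lhs => rw [← h, Subgroup.map_map]
    conv_rhs => rw [← h, ← Subgroup.mem_normalizer_iff_map_conj_eq.1 (F.T_le_D ht), Subgroup.map_map]
    congr 1
    ext y
    simp [mul_assoc]
  obtain ⟨k, hk, hkS⟩ := conj_in S S₀ hSE (hS₀.le.trans F.T_le_E)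
  rw [hS, hS₀, Subgroup.map_map] at hkS
  have hkg : k * g ∈ Subgroup.normalizer (F.T : Set G) := by
    rw [Subgroup.mem_normalizer_iff_map_conj_eq]
    refine Eq.trans ?_ hkS
    congr 1
    ext y
    simp [mul_assoc]
  have h1 := Subgroup.mem_normalizer_iff_map_conj_eq.1 (F.N_T_le hkg)
  have h2 : F.D.map (MulAut.conj (k * g)).toMonoidHom = F.E := by
    refine Eq.trans ?_ (Subgroup.mem_normalizer_iff_map_conj_eq.1 hk)
    rw [← h, Subgroup.map_map]
    congr 1
    ext y
    simp [mul_assoc]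
  have h3 : Nat.card ↥(F.D ⊓ F.E) = 16 := by
    conv_lhs => rw [show F.E = F.D from h2.symm.trans h1, inf_idem]
    exact F.card_D
  rw [F.card_inf] at h3
  omega

/-- The centraliser of a nontrivial element of `Z`. -/
theorem centralizer_Z {z : G} (hz : z ∈ F.Z) (hz1 : z ≠ 1) :
    Subgroup.centralizer ({z} : Set G) = F.T :=
  F.eq_T (F.cit z (Involution.orderOf_of_sq (F.sq_D z hz.1) hz1))
    fun t ht => Subgroup.mem_centralizer_singleton_iff.2 (F.comm z hz.1 hz.2 t ht)

/-- Conjugates of `Z` meeting nontrivially belong to the same flag. -/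
theorem mem_B_of_meet {g h z : G} (hz : z ≠ 1) (hg : g⁻¹ * z * g ∈ F.Z) (hh : h⁻¹ * z * h ∈ F.Z) :
    g⁻¹ * h ∈ F.B := by
  have key : ∀ g : G, g⁻¹ * z * g ∈ F.Z →
      F.T.map (MulAut.conj g).toMonoidHom = Subgroup.centralizer ({z} : Set G) := by
    intro g hg
    rw [← F.centralizer_Z hg fun e => hz (conj_eq_one_iff.1 (show g⁻¹ * z * g⁻¹⁻¹ = 1 by rw [inv_inv]; exact e))]
    ext x
    rw [Subgroup.mem_map_equiv, Subgroup.mem_centralizer_singleton_iff, Subgroup.mem_centralizer_singleton_iff,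
      MulAut.conj_symm_apply]
    constructor
    · intro e
      calc x * z = g * ((g⁻¹ * x * g) * (g⁻¹ * z * g)) * g⁻¹ := by group
        _ = z * x := by rw [e]; group
    · intro e
      calc g⁻¹ * x * g * (g⁻¹ * z * g) = g⁻¹ * (x * z) * g := by group
        _ = g⁻¹ * z * g * (g⁻¹ * x * g) := by rw [e]; group
  rw [← F.N_T_eq, Subgroup.mem_normalizer_iff_map_conj_eq]
  have := congrArg (Subgroup.map (MulAut.conj g⁻¹).toMonoidHom) ((key h hh).trans (key g hg).symm)
  rw [Subgroup.map_map, Subgroup.map_map] at this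
  refine Eq.trans ?_ (this.trans ?_)
  · congr 1
    ext y
    simp [mul_assoc]
  · conv_rhs => rw [← Subgroup.map_id F.T]
    congr 1
    ext y
    simp [mul_assoc]

theorem centralizer_D : Subgroup.centralizer (F.D : Set G) ≤ F.D := by
  intro a ha
  obtain ⟨z, hz1⟩ : ∃ z : F.Z, z ≠ 1 := by
    haveI : Nontrivial F.Z := Finite.one_lt_card_iff_nontrivial.1 (by rw [F.card_Z]; norm_num)
    exact exists_ne 1
  have haT : a ∈ F.T := by
    rw [← F.centralizer_Z z.2 fun e => hz1 (Subtype.ext e), Subgroup.mem_centralizer_singleton_iff]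
    exact (Subgroup.mem_centralizer_iff.1 ha _ z.2.1).symm
  by_contra haD
  have hDE : F.D ≤ F.E := fun d hd => F.fix_D a haT haD d hd (Subgroup.mem_centralizer_iff.1 ha d hd).symm
  have h1 : Nat.card ↥(F.D ⊓ F.E) = 16 := by rw [inf_eq_left.2 hDE, F.card_D]
  rw [F.card_inf] at h1
  omega

/-- The conjugates of `Z` under `N(D)` inside `D`. -/
noncomputable def zMap : (↥F.ND ⧸ F.B.subgroupOf F.ND) × {z : F.Z // z ≠ 1} → {d : F.D // d ≠ 1} :=
  fun x => ⟨⟨(x.1.out : G) * (x.2.1 : G) * (x.1.out : G)⁻¹, conj_mem_normalizer x.1.out.2 x.2.1.2.1⟩,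
    fun e => x.2.2 (Subtype.ext (conj_eq_one_iff.1 (congrArg Subtype.val e)))⟩

theorem zMap_injective : Function.Injective F.zMap := by
  rintro ⟨c, z⟩ ⟨c', z'⟩ e
  have e' : (c.out : G) * (z.1 : G) * (c.out : G)⁻¹ = (c'.out : G) * (z'.1 : G) * (c'.out : G)⁻¹ :=
    congrArg (fun d : {d : F.D // d ≠ 1} => ((d.1 : F.D) : G)) e
  have hB : (c.out : G)⁻¹ * (c'.out : G) ∈ F.B := by
    refine F.mem_B_of_meet (z := (c.out : G) * (z.1 : G) * (c.out : G)⁻¹)
      (fun h => z.2 (Subtype.ext (conj_eq_one_iff.1 h))) ?_ ?_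
    · rw [show (c.out : G)⁻¹ * ((c.out : G) * (z.1 : G) * (c.out : G)⁻¹) * (c.out : G) = (z.1 : G) by group]
      exact z.1.2
    · rw [e', show (c'.out : G)⁻¹ * ((c'.out : G) * (z'.1 : G) * (c'.out : G)⁻¹) * (c'.out : G) = (z'.1 : G) by group]
      exact z'.1.2
  have hc : c = c' := by
    rw [← QuotientGroup.out_eq' c, ← QuotientGroup.out_eq' c', QuotientGroup.eq, Subgroup.mem_subgroupOf,
      Subgroup.coe_mul, Subgroup.coe_inv]
    exact hB
  subst hc
  refine Prod.ext rfl (Subtype.ext (Subtype.ext ?_))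
  exact mul_left_cancel (mul_right_cancel e')

theorem card_ne_one' {A : Type*} [Group A] [Finite A] {n : ℕ} (h : Nat.card A = n) :
    Nat.card {x : A // x ≠ 1} = n - 1 := by
  classical
  haveI := Fintype.ofFinite A
  rw [Nat.card_eq_fintype_card, Fintype.card_subtype_compl, Fintype.card_subtype_eq,
    ← Nat.card_eq_fintype_card, h]

/-- `T` has exactly five conjugates in `N(D)`. -/
theorem relIndex_B : F.B.relIndex F.ND = 5 := by
  haveI : Fact (Nat.Prime 5) := ⟨by norm_num⟩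
  set n := F.B.relIndex F.ND with hn
  have hmul := Subgroup.relIndex_mul_relIndex F.T F.B F.ND F.T_le_B inf_le_left
  have hT : F.T.relIndex F.ND = 15 := by
    have h := Subgroup.relIndex_mul_relIndex ⊥ F.T F.ND bot_le F.T_le_D
    rw [Subgroup.relIndex_bot_left, Subgroup.relIndex_bot_left, F.card_T, F.card_N_D] at h
    omega
  have hle : n ≤ 5 := by
    have h := Nat.card_le_card_of_injective _ F.zMap_injective
    rw [Nat.card_prod, card_ne_one' F.card_Z, card_ne_one' F.card_D, ← Subgroup.index_eq_card] at h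
    change n * 3 ≤ 15 at h
    omega
  have hd : n ∣ 15 := Dvd.intro_left _ (hmul.trans hT)
  have h1 : n ≠ 1 := fun h => F.not_normal_D (by
    rw [F.N_T_eq]
    exact Subgroup.relIndex_eq_one.1 h)
  have h3 : n ≠ 3 := by
    intro h3
    have h5 : 5 ∣ Nat.card ↥(F.B) := by
      have h := Subgroup.relIndex_mul_relIndex ⊥ F.B F.ND bot_le inf_le_left
      rw [Subgroup.relIndex_bot_left, Subgroup.relIndex_bot_left, F.card_N_D, ← hn, h3] at h
      exact ⟨64, by omega⟩
    obtain ⟨y, hy⟩ := exists_prime_orderOf_dvd_card' 5 h5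
    letI : MulAction (Subgroup.zpowers (y : G)) F.Z :=
      { smul := fun g z => ⟨(g : G) * z * (g : G)⁻¹, F.conj_mem_Z (Subgroup.zpowers_le.2 y.2 g.2) z.2⟩
        one_smul := fun z => Subtype.ext (show ((1 : G)) * z * (1 : G)⁻¹ = z by simp)
        mul_smul := fun g h z => Subtype.ext (show ((g : G) * h) * z * ((g : G) * h)⁻¹ = _ from by
          show _ = (g : G) * ((h : G) * z * (h : G)⁻¹) * (g : G)⁻¹
          group) }
    have hP : IsPGroup 5 (Subgroup.zpowers (y : G)) :=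
      IsPGroup.of_card (n := 1) (by rw [Nat.card_zpowers, Subgroup.orderOf_coe, hy, pow_one])
    have hall : ∀ z : F.Z, ∀ g : Subgroup.zpowers (y : G), g • z = z := by
      intro z g
      obtain ⟨k, hk⟩ := hP.card_orbit z
      have hle' : Nat.card (MulAction.orbit (Subgroup.zpowers (y : G)) z) ≤ 4 :=
        F.card_Z ▸ Finite.card_subtype_le _
      have hk0 : k = 0 := by
        rcases k with _ | k
        · rfl
        · have : 5 ≤ 5 ^ (k + 1) := le_self_pow₀ (by norm_num) (by omega)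
          omega
      rw [hk0, pow_zero] at hk
      obtain ⟨hs, -⟩ := Nat.card_eq_one_iff_unique.1 hk
      exact congrArg Subtype.val (@Subsingleton.elim _ hs ⟨g • z, ⟨g, rfl⟩⟩ ⟨z, MulAction.mem_orbit_self z⟩)
    obtain ⟨z, hz⟩ : ∃ z : F.Z, z ≠ 1 := by
      haveI : Nontrivial F.Z := Finite.one_lt_card_iff_nontrivial.1 (by rw [F.card_Z]; norm_num)
      exact exists_ne 1
    have hc : (y : G) * z = z * y := mul_inv_eq_iff_eq_mul.1
      (show (y : G) * z * (y : G)⁻¹ = z from congrArg Subtype.val (hall z ⟨y, Subgroup.mem_zpowers _⟩))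
    have := CIT.IsCIT.eq_one_of_commute F.cit (t := (z : G)) (y := (y : G))
      (Involution.orderOf_of_sq (F.sq_D _ z.2.1) fun e => hz (Subtype.ext e))
      (by rw [Subgroup.orderOf_coe, hy]; decide) hc
    rw [← Subgroup.orderOf_coe, this, orderOf_one] at hy
    omega
  have := Nat.le_of_dvd (by norm_num) hd
  interval_cases n <;> omega

/-- Every element of `D` is central in a conjugate of `T` inside `N(D)`. -/
theorem exists_mem_Z {d : G} (hd : d ∈ F.D) (hd1 : d ≠ 1) : ∃ g ∈ F.ND, g⁻¹ * d * g ∈ F.Z := by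
  have hb : Function.Bijective F.zMap := by
    refine (Nat.bijective_iff_injective_and_card _).2 ⟨F.zMap_injective, ?_⟩
    rw [Nat.card_prod, card_ne_one' F.card_Z, card_ne_one' F.card_D, ← Subgroup.index_eq_card]
    change F.B.relIndex F.ND * 3 = 15
    rw [F.relIndex_B]
  obtain ⟨⟨c, z⟩, e⟩ := hb.2 ⟨⟨d, hd⟩, fun h => hd1 (congrArg Subtype.val h)⟩
  have e' : (c.out : G) * (z.1 : G) * (c.out : G)⁻¹ = d :=
    congrArg (fun d : {d : F.D // d ≠ 1} => ((d.1 : F.D) : G)) e
  refine ⟨c.out, c.out.2, ?_⟩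
  rw [← e', show (c.out : G)⁻¹ * ((c.out : G) * (z.1 : G) * (c.out : G)⁻¹) * (c.out : G) = (z.1 : G) by group]
  exact z.1.2

end Frame

end Cfsg.Agent.CITPlane
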