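/-
The incidence geometry of a frame: points `G ⧸ N(D)`, lines `G ⧸ N(E)`, incident if they share a representative.

* `Frame.exists_flag`, `Frame.flag_unique` : every involution determines a flag
* `Frame.fix_pt_iff`  : the points fixed by an involution
* `Frame.line_unique` : two points lie on at most one line
-/
import Cfsg.Agent.EqLemmas
import Cfsg.Agent.Lib.CITPlane.Core

set_option autoImplicit false

open Cfsg

namespace Cfsg.Agent.CITPlane.Frame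

variable {G : Type*} [Group G] (F : Frame G)

/-- The point of `g`. -/
abbrev pt (g : G) : G ⧸ F.ND := QuotientGroup.mk g

/-- The line of `g`. -/
abbrev ln (g : G) : G ⧸ F.NE := QuotientGroup.mk g

/-- Incidence. -/
def Inc (p : G ⧸ F.ND) (l : G ⧸ F.NE) : Prop := ∃ g : G, F.pt g = p ∧ F.ln g = l

theorem swap_Inc {p : G ⧸ F.ND} {l : G ⧸ F.NE} : F.swap.Inc l p ↔ F.Inc p l :=
  ⟨fun ⟨g, h1, h2⟩ => ⟨g, h2, h1⟩, fun ⟨g, h1, h2⟩ => ⟨g, h2, h1⟩⟩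

theorem inc_self (g : G) : F.Inc (F.pt g) (F.ln g) := ⟨g, rfl, rfl⟩

theorem inc_smul {p : G ⧸ F.ND} {l : G ⧸ F.NE} (h : F.Inc p l) (u : G) : F.Inc (u • p) (u • l) := by
  obtain ⟨g, rfl, rfl⟩ := h
  exact ⟨u * g, rfl, rfl⟩

theorem eq_B_iff {g h : G} : F.pt g = F.pt h ∧ F.ln g = F.ln h ↔ g⁻¹ * h ∈ F.B := by
  rw [pt, pt, ln, ln, QuotientGroup.eq, QuotientGroup.eq]
  rfl

variable [Finite G]

/-- Every involution is central in some conjugate of `T`. -/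
theorem exists_flag {i : G} (hi : orderOf i = 2) : ∃ g : G, g⁻¹ * i * g ∈ F.Z := by
  haveI : Fact (Nat.Prime 2) := ⟨Nat.prime_two⟩
  obtain ⟨S₀, hS₀⟩ := F.sylow
  obtain ⟨S, hS⟩ := (IsPGroup.of_card (n := 1) (by rw [Nat.card_zpowers, hi, pow_one]) :
    IsPGroup 2 (Subgroup.zpowers i)).exists_le_sylow
  obtain ⟨g, hg⟩ := MulAction.exists_smul_eq G S₀ S
  have hiS : i ∈ (S : Subgroup G) := hS (Subgroup.mem_zpowers i)
  rw [← hg] at hiS
  obtain ⟨t, ht, e⟩ := hiS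
  have ht' : t ∈ F.T := hS₀.le ht
  have e' : g * t * g⁻¹ = i := e
  have h1 : i ≠ 1 := fun h => by rw [h, orderOf_one] at hi; omega
  have ht1 : t ≠ 1 := fun h => h1 (by rw [← e', h, mul_one, mul_inv_cancel])
  have ht2 : t * t = 1 := by
    have h2 : i * i = 1 := by rw [← pow_two, ← hi, pow_orderOf_eq_one]
    rw [← e', conj_mul] at h2
    exact conj_eq_one_iff.1 h2
  rcases F.mem_or ht' ht2 with hd | he
  · obtain ⟨n, -, hn⟩ := F.exists_mem_Z hd ht1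
    refine ⟨g * n, ?_⟩
    rwa [← e', show (g * n)⁻¹ * (g * t * g⁻¹) * (g * n) = n⁻¹ * t * n by group]
  · obtain ⟨n, -, hn⟩ := F.swap.exists_mem_Z he ht1
    refine ⟨g * n, ?_⟩
    rw [← e', show (g * n)⁻¹ * (g * t * g⁻¹) * (g * n) = n⁻¹ * t * n by group]
    exact ⟨hn.2, hn.1⟩

/-- The representative of the flag of an involution is unique up to `B`. -/
theorem flag_unique {i : G} (hi : i ≠ 1) {g h : G} (hg : g⁻¹ * i * g ∈ F.Z) (hh : h⁻¹ * i * h ∈ F.Z) :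
    F.pt g = F.pt h ∧ F.ln g = F.ln h :=
  F.eq_B_iff.2 (F.mem_B_of_meet hi hg hh)

/-- An element commuting with an involution fixes its flag. -/
theorem fix_flag {i u : G} (hi : i ≠ 1) {g : G} (hg : g⁻¹ * i * g ∈ F.Z) (hu : u * i = i * u) :
    u • F.pt g = F.pt g ∧ u • F.ln g = F.ln g := by
  have h : (u * g)⁻¹ * i * (u * g) ∈ F.Z := by
    rwa [show (u * g)⁻¹ * i * (u * g) = g⁻¹ * (u⁻¹ * (i * u)) * g by group, ← hu, inv_mul_cancel_left]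
  exact F.flag_unique hi h hg

omit [Finite G] in
/-- Conjugates of `E` fix every point of their line. -/
theorem smul_of_mem_E {g x : G} (hx : g⁻¹ * x * g ∈ F.E) {p : G ⧸ F.ND} (hp : F.Inc p (F.ln g)) : x • p = p := by
  obtain ⟨h, rfl, hl⟩ := hp
  have hn : g⁻¹ * h ∈ F.NE := QuotientGroup.eq.1 hl.symm
  have h1 : h⁻¹ * x * h ∈ F.E := by
    have := (Subgroup.mem_normalizer_iff''.1 hn _).1 hx
    rwa [show (g⁻¹ * h)⁻¹ * (g⁻¹ * x * g) * (g⁻¹ * h) = h⁻¹ * x * h by group] at this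
  refine QuotientGroup.eq.2 (show (x * h)⁻¹ * h ∈ F.ND from ?_)
  have h2 := F.ND.inv_mem ((F.E_le.trans F.T_le_D) h1)
  rwa [show (h⁻¹ * x * h)⁻¹ = (x * h)⁻¹ * h by group] at h2

omit [Finite G] in
/-- Conjugates of `D` fix their point. -/
theorem smul_of_mem_D {g x : G} (hx : g⁻¹ * x * g ∈ F.D) : x • F.pt g = F.pt g := by
  refine QuotientGroup.eq.2 (show (x * g)⁻¹ * g ∈ F.ND from ?_)
  have h2 := F.ND.inv_mem (Subgroup.le_normalizer hx)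
  rwa [show (g⁻¹ * x * g)⁻¹ = (x * g)⁻¹ * g by group] at h2

/-- An involution fixing a point is there, or has its line through it. -/
theorem fix_pt {i : G} (hi : orderOf i = 2) {g : G} (hg : g⁻¹ * i * g ∈ F.Z) {p : G ⧸ F.ND} (hp : i • p = p) :
    F.pt g = p ∨ F.Inc p (F.ln g) := by
  have hi1 : i ≠ 1 := fun h => by rw [h, orderOf_one] at hi; omega
  have hi2 : i * i = 1 := by rw [← pow_two, ← hi, pow_orderOf_eq_one]
  obtain ⟨a, rfl⟩ := QuotientGroup.mk_surjective p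
  have hia : a⁻¹ * i * a ∈ F.ND := by
    have h1 : (i * a)⁻¹ * a ∈ F.ND := QuotientGroup.eq.1 hp
    have h2 := F.ND.inv_mem h1
    rwa [show ((i * a)⁻¹ * a)⁻¹ = a⁻¹ * i * a by group] at h2
  obtain ⟨n, hn, hT⟩ := F.exists_T_ge (P := Subgroup.zpowers (a⁻¹ * i * a))
    (IsPGroup.of_card (n := 1) (by
      rw [Nat.card_zpowers, show a⁻¹ * i * a = MulAut.conj a⁻¹ i by simp, MulEquiv.orderOf_eq, hi, pow_one]))
    (Subgroup.zpowers_le.2 hia)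
  have hmem := hT (Subgroup.mem_zpowers _)
  rw [Subgroup.mem_map_equiv, MulAut.conj_symm_apply] at hmem
  have e : n⁻¹ * (a⁻¹ * i * a) * n = (a * n)⁻¹ * i * (a * n) := by group
  rw [e] at hmem
  have ht1 : (a * n)⁻¹ * i * (a * n) ≠ 1 := fun h => hi1 (conj_eq_one_iff.1
    (show (a * n)⁻¹ * i * (a * n)⁻¹⁻¹ = 1 by rw [inv_inv]; exact h))
  have ht2 : (a * n)⁻¹ * i * (a * n) * ((a * n)⁻¹ * i * (a * n)) = 1 := by
    rw [show (a * n)⁻¹ * i * (a * n) * ((a * n)⁻¹ * i * (a * n)) = (a * n)⁻¹ * (i * i) * (a * n) by group, hi2]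
    group
  have hpn : F.pt (a * n) = F.pt a := (QuotientGroup.mk_mul_of_mem a hn)
  rcases F.mem_or hmem ht2 with hd | he
  · obtain ⟨m, hm, hZ⟩ := F.exists_mem_Z hd ht1
    rw [show m⁻¹ * ((a * n)⁻¹ * i * (a * n)) * m = (a * n * m)⁻¹ * i * (a * n * m) by group] at hZ
    refine Or.inl ((F.flag_unique hi1 hg hZ).1.trans ?_)
    exact (QuotientGroup.mk_mul_of_mem (a * n) hm).trans hpn
  · obtain ⟨m, hm, hZ⟩ := F.swap.exists_mem_Z he ht1
    rw [show m⁻¹ * ((a * n)⁻¹ * i * (a * n)) * m = (a * n * m)⁻¹ * i * (a * n * m) by group] at hZ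
    exact Or.inr ⟨a * n, hpn,
      ((F.flag_unique hi1 hg ⟨hZ.2, hZ.1⟩).2.trans (QuotientGroup.mk_mul_of_mem (a * n) hm)).symm⟩

/-- The points fixed by an involution. -/
theorem fix_pt_iff {i : G} (hi : orderOf i = 2) {g : G} (hg : g⁻¹ * i * g ∈ F.Z) {p : G ⧸ F.ND} :
    i • p = p ↔ F.pt g = p ∨ F.Inc p (F.ln g) :=
  ⟨F.fix_pt hi hg, fun h => h.elim (fun e => e ▸ F.smul_of_mem_D hg.1) fun h => F.smul_of_mem_E hg.2 h⟩

/-- The lines fixed by an involution. -/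
theorem fix_ln_iff {i : G} (hi : orderOf i = 2) {g : G} (hg : g⁻¹ * i * g ∈ F.Z) {l : G ⧸ F.NE} :
    i • l = l ↔ F.ln g = l ∨ F.Inc (F.pt g) l := by
  rw [← F.swap_Inc]
  exact F.swap.fix_pt_iff hi (g := g) ⟨hg.2, hg.1⟩

/-- A point of the line `aN(E)` is fixed by the centre of the flag of `a`. -/
theorem Z_conj_fix {a z : G} (hz : z ∈ F.Z) {p : G ⧸ F.ND} (hp : F.Inc p (F.ln a)) :
    (a * z * a⁻¹) • p = p :=
  F.smul_of_mem_E (show a⁻¹ * (a * z * a⁻¹) * a ∈ F.E by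
    rw [show a⁻¹ * (a * z * a⁻¹) * a = z by group]; exact hz.2) hp

/-- Elements of the two point subgroups of mutually fixed points commute. -/
theorem commute_of_fix {a b x y : G} (hne : F.pt a ≠ F.pt b) (hx : a⁻¹ * x * a ∈ F.D) (hy : b⁻¹ * y * b ∈ F.D)
    (hxb : x • F.pt b = F.pt b) (hya : y • F.pt a = F.pt a) : x * y = y * x := by
  have h1 : (x * y * x⁻¹ * y⁻¹) = 1 := by
    by_contra h
    have hc1 : a⁻¹ * (x * y * x⁻¹ * y⁻¹) * a ∈ F.D := by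
      have hy' : a⁻¹ * y * a ∈ F.ND := by
        have h2 := F.ND.inv_mem (QuotientGroup.eq.1 hya : (y * a)⁻¹ * a ∈ F.ND)
        rwa [show ((y * a)⁻¹ * a)⁻¹ = a⁻¹ * y * a by group] at h2
      have := F.D.mul_mem hx ((Subgroup.mem_normalizer_iff.1 hy' _).1 (F.D.inv_mem hx))
      rwa [show a⁻¹ * x * a * ((a⁻¹ * y * a) * (a⁻¹ * x * a)⁻¹ * (a⁻¹ * y * a)⁻¹) =
        a⁻¹ * (x * y * x⁻¹ * y⁻¹) * a by group] at this
    have hc2 : b⁻¹ * (x * y * x⁻¹ * y⁻¹) * b ∈ F.D := by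
      have hx' : b⁻¹ * x * b ∈ F.ND := by
        have h2 := F.ND.inv_mem (QuotientGroup.eq.1 hxb : (x * b)⁻¹ * b ∈ F.ND)
        rwa [show ((x * b)⁻¹ * b)⁻¹ = b⁻¹ * x * b by group] at h2
      have := F.D.mul_mem ((Subgroup.mem_normalizer_iff.1 hx' _).1 hy) (F.D.inv_mem hy)
      rwa [show (b⁻¹ * x * b) * (b⁻¹ * y * b) * (b⁻¹ * x * b)⁻¹ * (b⁻¹ * y * b)⁻¹ =
        b⁻¹ * (x * y * x⁻¹ * y⁻¹) * b by group] at this
    obtain ⟨n, hn, hnZ⟩ := F.exists_mem_Z hc1 fun e => h (conj_eq_one_iff.1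
      (show a⁻¹ * (x * y * x⁻¹ * y⁻¹) * a⁻¹⁻¹ = 1 by rw [inv_inv]; exact e))
    obtain ⟨m, hm, hmZ⟩ := F.exists_mem_Z hc2 fun e => h (conj_eq_one_iff.1
      (show b⁻¹ * (x * y * x⁻¹ * y⁻¹) * b⁻¹⁻¹ = 1 by rw [inv_inv]; exact e))
    rw [show n⁻¹ * (a⁻¹ * (x * y * x⁻¹ * y⁻¹) * a) * n = (a * n)⁻¹ * (x * y * x⁻¹ * y⁻¹) * (a * n) by group] at hnZ
    rw [show m⁻¹ * (b⁻¹ * (x * y * x⁻¹ * y⁻¹) * b) * m = (b * m)⁻¹ * (x * y * x⁻¹ * y⁻¹) * (b * m) by group] at hmZ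
    exact hne ((QuotientGroup.mk_mul_of_mem a hn).symm.trans
      ((F.flag_unique h hnZ hmZ).1.trans (QuotientGroup.mk_mul_of_mem b hm)))
  rwa [mul_inv_eq_one, mul_inv_eq_iff_eq_mul] at h1

/-- The elements of `D` fixing a second point of two lines generate `D`. -/
theorem D_fix {a b c : G} (ha : F.pt a = F.pt c) (hb : F.pt b = F.pt c) (hne : F.ln a ≠ F.ln b) {p : G ⧸ F.ND}
    (hpa : F.Inc p (F.ln a)) (hpb : F.Inc p (F.ln b)) {x : G} (hx : c⁻¹ * x * c ∈ F.D) : x • p = p := by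
  classical
  have hmem : ∀ g : G, F.pt g = F.pt c → ∀ z : F.Z, c⁻¹ * (g * (z : G) * g⁻¹) * c ∈ F.D := by
    intro g hg z
    have hn : g⁻¹ * c ∈ F.ND := QuotientGroup.eq.1 hg
    have := (Subgroup.mem_normalizer_iff''.1 hn _).1 z.2.1
    rwa [show (g⁻¹ * c)⁻¹ * (z : G) * (g⁻¹ * c) = c⁻¹ * (g * z * g⁻¹) * c by group] at this
  let f : F.Z × F.Z → F.D := fun z =>
    ⟨c⁻¹ * (a * (z.1 : G) * a⁻¹) * c * (c⁻¹ * (b * (z.2 : G) * b⁻¹) * c), F.D.mul_mem (hmem a ha z.1) (hmem b hb z.2)⟩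
  have hf : Function.Injective f := by
    rintro ⟨z, w⟩ ⟨z', w'⟩ e
    have e' : c⁻¹ * (a * (z : G) * a⁻¹) * c * (c⁻¹ * (b * (w : G) * b⁻¹) * c) =
        c⁻¹ * (a * (z' : G) * a⁻¹) * c * (c⁻¹ * (b * (w' : G) * b⁻¹) * c) := congrArg Subtype.val e
    have e2 : a * ((z' : G)⁻¹ * z) * a⁻¹ = b * ((w' : G) * (w : G)⁻¹) * b⁻¹ := by
      calc a * ((z' : G)⁻¹ * z) * a⁻¹
          = (c⁻¹ * (a * (z' : G) * a⁻¹) * c * c⁻¹)⁻¹ * (c⁻¹ * (a * (z : G) * a⁻¹) * c * (c⁻¹ * (b * (w : G) * b⁻¹) * c)) *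
            c⁻¹ * (b * (w : G)⁻¹ * b⁻¹) := by group
        _ = b * ((w' : G) * (w : G)⁻¹) * b⁻¹ := by rw [e']; group
    by_cases h1 : a * ((z' : G)⁻¹ * z) * a⁻¹ = 1
    · have hz : z = z' := Subtype.ext (inv_mul_eq_one.1 (conj_eq_one_iff.1 h1)).symm
      rw [h1] at e2
      have hw : w' = w := Subtype.ext (mul_inv_eq_one.1 (conj_eq_one_iff.1 e2.symm))
      rw [hz, hw]
    · exfalso
      refine hne (F.flag_unique h1 (g := a) (h := b) ?_ ?_).2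
      · rw [show a⁻¹ * (a * ((z' : G)⁻¹ * z) * a⁻¹) * a = (z' : G)⁻¹ * z by group]
        exact F.Z.mul_mem (F.Z.inv_mem z'.2) z.2
      · rw [e2, show b⁻¹ * (b * ((w' : G) * (w : G)⁻¹) * b⁻¹) * b = (w' : G) * (w : G)⁻¹ by group]
        exact F.Z.mul_mem w'.2 (F.Z.inv_mem w.2)
  have hsurj : Function.Surjective f :=
    ((Nat.bijective_iff_injective_and_card f).2 ⟨hf, by rw [Nat.card_prod, F.card_Z, F.card_D]⟩).2
  obtain ⟨⟨z, w⟩, e⟩ := hsurj ⟨_, hx⟩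
  have e' : c⁻¹ * (a * (z : G) * a⁻¹) * c * (c⁻¹ * (b * (w : G) * b⁻¹) * c) = c⁻¹ * x * c := congrArg Subtype.val e
  have e3 : x = a * (z : G) * a⁻¹ * (b * (w : G) * b⁻¹) := by
    calc x = c * (c⁻¹ * x * c) * c⁻¹ := by group
      _ = a * (z : G) * a⁻¹ * (b * (w : G) * b⁻¹) := by rw [← e']; group
  rw [e3, mul_smul, F.Z_conj_fix w.2 hpb, F.Z_conj_fix z.2 hpa]

/-- Two points lie on at most one line. -/
theorem line_unique {p p' : G ⧸ F.ND} (hne : p ≠ p') {l l' : G ⧸ F.NE}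
    (h1 : F.Inc p l) (h2 : F.Inc p' l) (h3 : F.Inc p l') (h4 : F.Inc p' l') : l = l' := by
  by_contra hll
  obtain ⟨a, ha, rfl⟩ := h1
  obtain ⟨b, hb, rfl⟩ := h3
  obtain ⟨a', ha', hla'⟩ := h2
  obtain ⟨b', hb', hlb'⟩ := h4
  subst ha
  subst ha'
  have hfix : ∀ y : G, a'⁻¹ * y * a' ∈ F.D → y • F.pt a = F.pt a := fun y hy => by
    refine F.D_fix (a := a') (b := b') (c := a') rfl hb' (fun e => hll (hla'.symm.trans (e.trans hlb'))) ?_ ?_ hy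
    · rw [hla']; exact F.inc_self a
    · rw [hlb']; exact ⟨b, hb, rfl⟩
  have hfix' : ∀ x : G, a⁻¹ * x * a ∈ F.D → x • F.pt a' = F.pt a' := fun x hx =>
    F.D_fix rfl hb hll (⟨a', rfl, hla'⟩ : F.Inc (F.pt a') (F.ln a)) ⟨b', hb', hlb'⟩ hx
  -- so the point subgroup of `a'` centralises that of `a`, hence lies in it
  obtain ⟨z, hz⟩ : ∃ z : F.Z, z ≠ 1 := by
    haveI : Nontrivial F.Z := Finite.one_lt_card_iff_nontrivial.1 (by rw [F.card_Z]; norm_num)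
    exact exists_ne 1
  set y := a' * (z : G) * a'⁻¹ with hy
  have hyD : a'⁻¹ * y * a' ∈ F.D := by
    rw [hy, show a'⁻¹ * (a' * (z : G) * a'⁻¹) * a' = (z : G) by group]; exact z.2.1
  have hc : a⁻¹ * y * a ∈ Subgroup.centralizer (F.D : Set G) := Subgroup.mem_centralizer_iff.2 fun d hd => by
    have hxd : a⁻¹ * (a * d * a⁻¹) * a ∈ F.D := by rwa [show a⁻¹ * (a * d * a⁻¹) * a = d by group]
    have := F.commute_of_fix hne hxd hyD (hfix' _ hxd) (hfix y hyD)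
    calc d * (a⁻¹ * y * a) = a⁻¹ * (a * d * a⁻¹ * y) * a := by group
      _ = a⁻¹ * y * a * d := by rw [this]; group
  have hy1 : y ≠ 1 := fun e => hz (Subtype.ext (conj_eq_one_iff.1 e))
  obtain ⟨n, hn, hnZ⟩ := F.exists_mem_Z (F.centralizer_D hc) fun e => hy1 (conj_eq_one_iff.1
    (show a⁻¹ * y * a⁻¹⁻¹ = 1 by rw [inv_inv]; exact e))
  rw [show n⁻¹ * (a⁻¹ * y * a) * n = (a * n)⁻¹ * y * (a * n) by group] at hnZ
  refine hne ((QuotientGroup.mk_mul_of_mem a hn).symm.trans (F.flag_unique hy1 hnZ ?_).1)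
  rw [hy, show a'⁻¹ * (a' * (z : G) * a'⁻¹) * a' = (z : G) by group]
  exact z.2

end Cfsg.Agent.CITPlane.Frame
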