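/-
Counting involutions: a frame in a CIT group has 21 points, any two on a line.

* `Frame.card_lines`, `Frame.card_points` : five lines through a point, five points on a line
* `Frame.card_invol` : there are `15 k` involutions for `k` points
* `Frame.count` : `k = 21` and any two points are collinear
* `Frame.card_G` : the group has order 20160
-/
import Cfsg.Agent.EqLemmas
import Cfsg.Agent.Lib.CITPlane.Geometry

set_option autoImplicit false

open Cfsg

namespace Cfsg.Agent.CITPlane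

theorem card_and_ne {α : Type*} [Finite α] {P : α → Prop} {a : α} (ha : P a) {n : ℕ}
    (h : Nat.card {x // P x} = n) : Nat.card {x // P x ∧ x ≠ a} = n - 1 := by
  classical
  haveI := Fintype.ofFinite α
  have e : {x // P x ∧ x ≠ a} ≃ {y : {x // P x} // y ≠ ⟨a, ha⟩} :=
    { toFun := fun x => ⟨⟨x.1, x.2.1⟩, fun e => x.2.2 (congrArg Subtype.val e)⟩
      invFun := fun y => ⟨y.1.1, y.1.2, fun e => y.2 (Subtype.ext e)⟩
      left_inv := fun _ => rfl
      right_inv := fun _ => rfl }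
  rw [Nat.card_congr e, Nat.card_eq_fintype_card, Fintype.card_subtype_compl, Fintype.card_subtype_eq,
    ← Nat.card_eq_fintype_card, h]

namespace Frame

variable {G : Type*} [Group G] [Finite G] (F : Frame G)

theorem card_lines (p : G ⧸ F.ND) : Nat.card {l // F.Inc p l} = 5 := by
  obtain ⟨a, rfl⟩ := QuotientGroup.mk_surjective p
  let f : ↥F.ND ⧸ F.B.subgroupOf F.ND → {l // F.Inc (F.pt a) l} := fun c =>
    ⟨F.ln (a * c.out), a * c.out, QuotientGroup.mk_mul_of_mem a c.out.2, rfl⟩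
  have hf : Function.Bijective f := by
    constructor
    · intro c c' e
      have e' : F.ln (a * c.out) = F.ln (a * c'.out) := congrArg Subtype.val e
      rw [← QuotientGroup.out_eq' c, ← QuotientGroup.out_eq' c', QuotientGroup.eq, Subgroup.mem_subgroupOf,
        Subgroup.coe_mul, Subgroup.coe_inv]
      refine ⟨F.ND.mul_mem (F.ND.inv_mem c.out.2) c'.out.2, ?_⟩
      have := QuotientGroup.eq.1 e'
      rwa [show (a * (c.out : G))⁻¹ * (a * (c'.out : G)) = (c.out : G)⁻¹ * (c'.out : G) by group] at this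
    · rintro ⟨_, g, hg, rfl⟩
      have hn : a⁻¹ * g ∈ F.ND := QuotientGroup.eq.1 hg.symm
      refine ⟨QuotientGroup.mk ⟨a⁻¹ * g, hn⟩, Subtype.ext ?_⟩
      obtain ⟨⟨b, hb⟩, e⟩ := QuotientGroup.mk_out_eq_mul (F.B.subgroupOf F.ND) ⟨a⁻¹ * g, hn⟩
      show F.ln (a * ((QuotientGroup.mk (⟨a⁻¹ * g, hn⟩ : F.ND) : ↥F.ND ⧸ F.B.subgroupOf F.ND).out : G)) = F.ln g
      rw [e]
      show F.ln (a * (a⁻¹ * g * (b : G))) = F.ln g
      rw [show a * (a⁻¹ * g * (b : G)) = g * (b : G) by group]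
      exact QuotientGroup.mk_mul_of_mem g (Subgroup.mem_subgroupOf.1 hb).2
  rw [← Nat.card_eq_of_bijective f hf]
  exact F.relIndex_B

theorem card_points (l : G ⧸ F.NE) : Nat.card {p // F.Inc p l} = 5 := by
  rw [← F.swap.card_lines l]
  exact Nat.card_congr (Equiv.subtypeEquivRight fun p => F.swap_Inc.symm)

/-- The flags. -/
abbrev Flag : Type _ := {x : (G ⧸ F.ND) × (G ⧸ F.NE) // F.Inc x.1 x.2}

/-- The involutions. -/
abbrev Invol (G : Type*) [Group G] : Type _ := {i : G // orderOf i = 2}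

/-- The flag of an involution. -/
noncomputable def flag (i : Invol G) : F.Flag :=
  ⟨(F.pt (F.exists_flag i.2).choose, F.ln (F.exists_flag i.2).choose), F.inc_self _⟩

theorem flag_eq (i : Invol G) {g : G} (hg : g⁻¹ * (i : G) * g ∈ F.Z) :
    F.flag i = ⟨(F.pt g, F.ln g), F.inc_self g⟩ := by
  have h := F.flag_unique (fun e => by have := i.2; rw [e, orderOf_one] at this; omega)
    (F.exists_flag i.2).choose_spec hg
  exact Subtype.ext (Prod.ext h.1 h.2)

theorem card_flag : Nat.card F.Flag = Nat.card (G ⧸ F.ND) * 5 := by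
  classical
  haveI := Fintype.ofFinite (G ⧸ F.ND)
  rw [Nat.card_congr (Equiv.subtypeProdEquivSigmaSubtype F.Inc), Nat.card_sigma,
    Finset.sum_congr rfl (fun p _ => F.card_lines p), Finset.sum_const, Finset.card_univ,
    ← Nat.card_eq_fintype_card, smul_eq_mul]

/-- Each flag carries three involutions. -/
theorem card_invol_flag (P : F.Flag → Prop) :
    Nat.card {i : Invol G // P (F.flag i)} = Nat.card {f : F.Flag // P f} * 3 := by
  classical
  let rep : F.Flag → G := fun f => f.2.choose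
  have hrep : ∀ f : F.Flag, (⟨(F.pt (rep f), F.ln (rep f)), F.inc_self _⟩ : F.Flag) = f := fun f =>
    Subtype.ext (Prod.ext f.2.choose_spec.1 f.2.choose_spec.2)
  have hord : ∀ (g : G) (z : {z : F.Z // z ≠ 1}), orderOf (g * (z.1 : G) * g⁻¹) = 2 := fun g z => by
    rw [show g * (z.1 : G) * g⁻¹ = MulAut.conj g (z.1 : G) from rfl, MulEquiv.orderOf_eq]
    exact Involution.orderOf_of_sq (F.sq_D _ z.1.2.1) fun e => z.2 (Subtype.ext e)
  have hmem : ∀ (f : F.Flag) (z : {z : F.Z // z ≠ 1}),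
      F.flag ⟨rep f * (z.1 : G) * (rep f)⁻¹, hord _ _⟩ = f := fun f z => by
    rw [F.flag_eq ⟨_, hord _ _⟩ (g := rep f) (by
      show (rep f)⁻¹ * (rep f * (z.1 : G) * (rep f)⁻¹) * rep f ∈ F.Z
      rw [show (rep f)⁻¹ * (rep f * (z.1 : G) * (rep f)⁻¹) * rep f = (z.1 : G) by group]
      exact z.1.2)]
    exact hrep f
  let φ : {f : F.Flag // P f} × {z : F.Z // z ≠ 1} → {i : Invol G // P (F.flag i)} := fun x =>
    ⟨⟨rep x.1 * (x.2.1 : G) * (rep x.1)⁻¹, hord _ _⟩, by rw [hmem]; exact x.1.2⟩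
  have hφ : Function.Bijective φ := by
    constructor
    · rintro ⟨f, z⟩ ⟨f', z'⟩ e
      have hff : f = f' := Subtype.ext ((hmem f.1 z).symm.trans
        ((congrArg (fun x : {i : Invol G // P (F.flag i)} => F.flag x.1) e).trans (hmem f'.1 z')))
      subst hff
      have e' : rep f.1 * (z.1 : G) * (rep f.1)⁻¹ = rep f.1 * (z'.1 : G) * (rep f.1)⁻¹ :=
        congrArg (fun x : {i : Invol G // P (F.flag i)} => ((x.1 : Invol G) : G)) e
      exact Prod.ext rfl (Subtype.ext (Subtype.ext (mul_left_cancel (mul_right_cancel e'))))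
    · rintro ⟨i, hi⟩
      have hi1 : (i : G) ≠ 1 := fun e => by have := i.2; rw [e, orderOf_one] at this; omega
      set g := (F.exists_flag i.2).choose with hg
      have hgs := (F.exists_flag i.2).choose_spec
      have hB : (rep (F.flag i))⁻¹ * g ∈ F.B := F.eq_B_iff.1
        ⟨congrArg Prod.fst (congrArg Subtype.val (hrep (F.flag i))),
          congrArg Prod.snd (congrArg Subtype.val (hrep (F.flag i)))⟩
      have hz := F.conj_mem_Z hB hgs
      rw [show (rep (F.flag i))⁻¹ * g * (g⁻¹ * (i : G) * g) * ((rep (F.flag i))⁻¹ * g)⁻¹ =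
        (rep (F.flag i))⁻¹ * (i : G) * rep (F.flag i) by group] at hz
      refine ⟨(⟨F.flag i, hi⟩, ⟨⟨_, hz⟩, fun e => hi1 (conj_eq_one_iff.1 (show
        (rep (F.flag i))⁻¹ * (i : G) * (rep (F.flag i))⁻¹⁻¹ = 1 by
          rw [inv_inv]; exact congrArg Subtype.val e))⟩), Subtype.ext (Subtype.ext ?_)⟩
      show rep (F.flag i) * ((rep (F.flag i))⁻¹ * (i : G) * rep (F.flag i)) * (rep (F.flag i))⁻¹ = i
      group
  rw [← Nat.card_eq_of_bijective φ hφ, Nat.card_prod, card_ne_one' F.card_Z]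

theorem card_invol : Nat.card (Invol G) = Nat.card (G ⧸ F.ND) * 15 := by
  have h := F.card_invol_flag fun _ => True
  rw [Nat.card_congr (Equiv.subtypeUnivEquiv fun _ => trivial),
    Nat.card_congr (Equiv.subtypeUnivEquiv fun _ => trivial), F.card_flag] at h
  omega

/-- Collinear with the point `p₀`. -/
def Col (p₀ p : G ⧸ F.ND) : Prop := ∃ l, F.Inc p₀ l ∧ F.Inc p l

theorem card_col (p₀ : G ⧸ F.ND) : Nat.card {p // p ≠ p₀ ∧ F.Col p₀ p} = 20 := by
  classical
  haveI := Fintype.ofFinite {l // F.Inc p₀ l}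
  let f : (Σ l : {l // F.Inc p₀ l}, {p // F.Inc p l.1 ∧ p ≠ p₀}) → {p // p ≠ p₀ ∧ F.Col p₀ p} :=
    fun x => ⟨x.2.1, x.2.2.2, x.1.1, x.1.2, x.2.2.1⟩
  have hf : Function.Bijective f := by
    constructor
    · rintro ⟨⟨l, hl⟩, p, hp⟩ ⟨⟨l', hl'⟩, p', hp'⟩ e
      obtain rfl : p = p' := congrArg Subtype.val e
      obtain rfl : l = l' := F.line_unique hp.2 hp.1 hl hp'.1 hl'
      rfl
    · rintro ⟨p, hne, l, h1, h2⟩
      exact ⟨⟨⟨l, h1⟩, p, h2, hne⟩, rfl⟩
  rw [← Nat.card_eq_of_bijective f hf, Nat.card_sigma,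
    Finset.sum_congr rfl (fun l _ => card_and_ne l.2 (F.card_points l.1)), Finset.sum_const,
    Finset.card_univ, ← Nat.card_eq_fintype_card, F.card_lines, smul_eq_mul]

omit [Finite G] in
theorem smul_pt_one {x : G} : x • F.pt 1 = F.pt 1 ↔ x ∈ F.ND := by
  constructor
  · intro h
    have := F.ND.inv_mem (QuotientGroup.eq.1 h : (x * 1)⁻¹ * 1 ∈ F.ND)
    simpa using this
  · intro h
    exact QuotientGroup.eq.2 (show (x * 1)⁻¹ * 1 ∈ F.ND by simpa using h)

/-- There are no commuting elements of orders 3 and 5 in `N(D)`. -/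
theorem no_fifteen {x y : G} (hx : x ∈ F.ND) (hy : y ∈ F.ND) (hxo : orderOf x = 3) (hyo : orderOf y = 5)
    (hxy : x * y = y * x) : False := by
  classical
  haveI : Fact (Nat.Prime 3) := ⟨Nat.prime_three⟩
  haveI : Fact (Nat.Prime 5) := ⟨by norm_num⟩
  have hp0 : ∀ u ∈ F.ND, ∀ l, F.Inc (F.pt 1) l → F.Inc (F.pt 1) (u • l) := fun u hu l hl => by
    have := F.inc_smul hl u
    rwa [F.smul_pt_one.2 hu] at this
  have hyfix : ∀ l, F.Inc (F.pt 1) l → ∀ u : G, orderOf u = 5 → u ∈ F.ND → u • l ≠ l := by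
    rintro l ⟨n, hn, rfl⟩ u huo hu h
    have hn' : n ∈ F.ND := by
      have := F.ND.inv_mem (QuotientGroup.eq.1 hn : n⁻¹ * 1 ∈ F.ND)
      simpa using this
    have huB : n⁻¹ * u * n ∈ F.B := by
      refine ⟨F.ND.mul_mem (F.ND.mul_mem (F.ND.inv_mem hn') hu) hn', ?_⟩
      have := F.NE.inv_mem (QuotientGroup.eq.1 h : (u * n)⁻¹ * n ∈ F.NE)
      rwa [show ((u * n)⁻¹ * n)⁻¹ = n⁻¹ * u * n by group] at this
    have h1 := orderOf_dvd_natCard (⟨_, huB⟩ : F.B)
    rw [Subgroup.orderOf_mk, show n⁻¹ * u * n = MulAut.conj n⁻¹ u by simp, MulEquiv.orderOf_eq, huo] at h1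
    have h2 := Subgroup.relIndex_mul_relIndex ⊥ F.B F.ND bot_le inf_le_left
    rw [Subgroup.relIndex_bot_left, Subgroup.relIndex_bot_left, F.card_N_D, F.relIndex_B] at h2
    rw [show Nat.card F.B = 192 by omega] at h1
    norm_num at h1
  -- `x` fixes a line through the point, hence all of them
  letI : MulAction (Subgroup.zpowers x) {l // F.Inc (F.pt 1) l} :=
    { smul := fun g l => ⟨(g : G) • l.1, hp0 g (Subgroup.zpowers_le.2 hx g.2) l.1 l.2⟩
      one_smul := fun l => Subtype.ext (one_smul G l.1)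
      mul_smul := fun g h l => Subtype.ext (mul_smul (g : G) (h : G) l.1) }
  obtain ⟨⟨l₀, hl₀⟩, hfix⟩ := (IsPGroup.of_card (n := 1) (by rw [Nat.card_zpowers, hxo, pow_one]) :
    IsPGroup 3 (Subgroup.zpowers x)).nonempty_fixed_point_of_prime_not_dvd_card {l // F.Inc (F.pt 1) l}
    (by rw [F.card_lines]; norm_num)
  have hx0 : x • l₀ = l₀ := congrArg Subtype.val (hfix ⟨x, Subgroup.mem_zpowers x⟩)
  have hmemy : ∀ k : ℕ, F.Inc (F.pt 1) (y ^ k • l₀) := fun k => hp0 _ (pow_mem hy k) _ hl₀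
  let ψ : Fin 5 → {l // F.Inc (F.pt 1) l} := fun k => ⟨y ^ (k : ℕ) • l₀, hmemy k⟩
  have hψ : Function.Bijective ψ := by
    refine (Nat.bijective_iff_injective_and_card ψ).2 ⟨?_, by rw [F.card_lines, Nat.card_fin]⟩
    intro j k e
    have e' : y ^ (j : ℕ) • l₀ = y ^ (k : ℕ) • l₀ := congrArg Subtype.val e
    by_contra hne
    wlog hlt : (j : ℕ) < k generalizing j k
    · exact this e.symm e'.symm (Ne.symm hne) (lt_of_le_of_ne (not_lt.1 hlt) fun h => hne (Fin.ext h.symm))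
    have h1 : y ^ ((k : ℕ) - j) • l₀ = l₀ := by
      apply MulAction.injective (y ^ (j : ℕ))
      show y ^ (j : ℕ) • y ^ ((k : ℕ) - j) • l₀ = y ^ (j : ℕ) • l₀
      rw [← mul_smul, ← pow_add, Nat.add_sub_cancel' hlt.le, e']
    refine hyfix l₀ hl₀ _ ?_ (pow_mem hy _) h1
    rw [Nat.Coprime.orderOf_pow, hyo]
    rw [hyo]
    refine (Nat.Prime.coprime_iff_not_dvd (by norm_num)).2 fun hd => ?_
    have := Nat.le_of_dvd (by omega) hd
    have := k.2
    omega
  have hxall : ∀ l, F.Inc (F.pt 1) l → x • l = l := by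
    intro l hl
    obtain ⟨k, hk⟩ := hψ.2 ⟨l, hl⟩
    have hk' : y ^ (k : ℕ) • l₀ = l := congrArg Subtype.val hk
    rw [← hk', ← mul_smul, ((show Commute x y from hxy).pow_right _).eq, mul_smul, hx0]
  have hxE : x ∈ F.NE := by
    have := F.NE.inv_mem (QuotientGroup.eq.1 (hxall (F.ln 1) (F.inc_self 1)) : (x * 1)⁻¹ * 1 ∈ F.NE)
    simpa using this
  -- a coset of `Z` in `E` fixed by `x`
  obtain ⟨a, ha, haZ⟩ : ∃ a ∈ F.E, a ∉ F.D := by
    by_contra h
    push Not at h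
    have h1 : Nat.card ↥(F.D ⊓ F.E) = 16 := by rw [inf_eq_right.2 (fun a ha => h a ha), F.card_E]
    rw [F.card_inf] at h1
    omega
  have haD : a ∈ F.ND := F.T_le_D (F.E_le ha)
  have hcomm : x * a * x⁻¹ * a⁻¹ ∈ F.Z := by
    have heE : x * a * x⁻¹ * a⁻¹ ∈ F.E := F.E.mul_mem (conj_mem_normalizer hxE ha) (F.E.inv_mem ha)
    by_cases he : x * a * x⁻¹ * a⁻¹ = 1
    · rw [he]; exact F.Z.one_mem
    have hfixe : ∀ l, F.Inc (F.pt 1) l → (x * a * x⁻¹ * a⁻¹) • l = l := fun l hl => by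
      have h1 := hxall _ (hp0 a⁻¹ (F.ND.inv_mem haD) l hl)
      rw [mul_smul, mul_smul, mul_smul, inv_smul_eq_iff.2 h1.symm, smul_inv_smul, hxall l hl]
    obtain ⟨g, hgE, hg⟩ := F.swap.exists_mem_Z heE he
    have hgln : F.ln g = F.ln 1 := QuotientGroup.eq.2 (show g⁻¹ * 1 ∈ F.NE by
      simpa using F.NE.inv_mem hgE)
    obtain ⟨l, hl, hl1⟩ : ∃ l, F.Inc (F.pt 1) l ∧ l ≠ F.ln 1 := by
      by_contra h
      push Not at h
      haveI : Subsingleton {l // F.Inc (F.pt 1) l} :=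
        ⟨fun l l' => Subtype.ext ((h _ l.2).trans (h _ l'.2).symm)⟩
      have := Finite.card_le_one_iff_subsingleton.2 this
      rw [F.card_lines] at this
      omega
    have hpg : F.pt g = F.pt 1 := by
      by_contra hne
      rcases (F.fix_ln_iff (Involution.orderOf_of_sq (F.sq_E _ heE) he) (g := g) ⟨hg.2, hg.1⟩).1
        (hfixe l hl) with h | h
      · exact hl1 (h.symm.trans hgln)
      · exact hl1 (F.line_unique hne h hl (hgln ▸ F.inc_self g) (F.inc_self 1))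
    have hgB : g ∈ F.B := by
      have := F.B.inv_mem (F.eq_B_iff.1 ⟨hpg, hgln⟩)
      simpa using this
    have := F.conj_mem_Z hgB (⟨hg.2, hg.1⟩ : g⁻¹ * (x * a * x⁻¹ * a⁻¹) * g ∈ F.Z)
    rwa [show g * (g⁻¹ * (x * a * x⁻¹ * a⁻¹) * g) * g⁻¹ = x * a * x⁻¹ * a⁻¹ by group] at this
  have hxB : x ∈ F.B := ⟨hx, hxE⟩
  let C : Type _ := {t : G // t * a⁻¹ ∈ F.Z}
  have hstep : ∀ g ∈ Subgroup.zpowers x, ∀ t : G, t * a⁻¹ ∈ F.Z → g * t * g⁻¹ * a⁻¹ ∈ F.Z := by
    let S : Subgroup G :=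
      { carrier := {g | g ∈ F.B ∧ g * a * g⁻¹ * a⁻¹ ∈ F.Z}
        one_mem' := ⟨F.B.one_mem, by simp⟩
        mul_mem' := fun {g h} hg hh => ⟨F.B.mul_mem hg.1 hh.1, by
          have := F.Z.mul_mem (F.conj_mem_Z hg.1 hh.2) hg.2
          rwa [show g * (h * a * h⁻¹ * a⁻¹) * g⁻¹ * (g * a * g⁻¹ * a⁻¹) = g * h * a * (g * h)⁻¹ * a⁻¹ by group] at this⟩
        inv_mem' := fun {g} hg => ⟨F.B.inv_mem hg.1, by
          have := F.Z.inv_mem (F.conj_mem_Z (F.B.inv_mem hg.1) hg.2)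
          rwa [show (g⁻¹ * (g * a * g⁻¹ * a⁻¹) * g⁻¹⁻¹)⁻¹ = g⁻¹ * a * g⁻¹⁻¹ * a⁻¹ by group] at this⟩ }
    have hS : Subgroup.zpowers x ≤ S := Subgroup.zpowers_le.2 (⟨hxB, hcomm⟩ : x ∈ S)
    intro g hg t ht
    have := F.Z.mul_mem (F.conj_mem_Z (hS hg).1 ht) (hS hg).2
    rwa [show g * (t * a⁻¹) * g⁻¹ * (g * a * g⁻¹ * a⁻¹) = g * t * g⁻¹ * a⁻¹ by group] at this
  letI : MulAction (Subgroup.zpowers x) C :=
    { smul := fun g t => ⟨(g : G) * t.1 * (g : G)⁻¹, hstep g g.2 t.1 t.2⟩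
      one_smul := fun t => Subtype.ext (show (1 : G) * t.1 * (1 : G)⁻¹ = t.1 by simp)
      mul_smul := fun g h t => Subtype.ext (show (g : G) * h * t.1 * ((g : G) * h)⁻¹ =
        (g : G) * ((h : G) * t.1 * (h : G)⁻¹) * (g : G)⁻¹ by group) }
  have hC : Nat.card C = 4 := by
    rw [← F.card_Z]
    exact Nat.card_congr ((Equiv.mulRight a⁻¹).subtypeEquiv fun t => Iff.rfl)
  obtain ⟨⟨t, ht⟩, htfix⟩ := (IsPGroup.of_card (n := 1) (by rw [Nat.card_zpowers, hxo, pow_one]) :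
    IsPGroup 3 (Subgroup.zpowers x)).nonempty_fixed_point_of_prime_not_dvd_card C (by rw [hC]; norm_num)
  have htx : x * t * x⁻¹ = t := congrArg Subtype.val (htfix ⟨x, Subgroup.mem_zpowers x⟩)
  have htE : t ∈ F.E := by
    have := F.E.mul_mem ht.2 ha
    rwa [inv_mul_cancel_right] at this
  have ht1 : t ≠ 1 := fun e => haZ (by
    have h1 := F.D.inv_mem ht.1
    rwa [e, one_mul, inv_inv] at h1)
  have := CIT.IsCIT.eq_one_of_commute F.cit (Involution.orderOf_of_sq (F.sq_E t htE) ht1)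
    (by rw [hxo]; decide) (mul_inv_eq_iff_eq_mul.1 htx)
  rw [this, orderOf_one] at hxo
  omega

/-- A group of order 15 has commuting elements of orders 3 and 5. -/
theorem exists_fifteen {X : Type*} [Group X] [Finite X] (h : Nat.card X = 15) :
    ∃ x y : X, orderOf x = 3 ∧ orderOf y = 5 ∧ x * y = y * x := by
  haveI : Fact (Nat.Prime 3) := ⟨Nat.prime_three⟩
  haveI : Fact (Nat.Prime 5) := ⟨by norm_num⟩
  obtain ⟨x, hx⟩ := exists_prime_orderOf_dvd_card' (G := X) 3 (by rw [h]; norm_num)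
  obtain ⟨y, hy⟩ := exists_prime_orderOf_dvd_card' (G := X) 5 (by rw [h]; norm_num)
  refine ⟨x, y, hx, hy, ?_⟩
  have hi : (Subgroup.zpowers y).index = 3 := by
    have := Subgroup.card_mul_index (Subgroup.zpowers y)
    rw [Nat.card_zpowers, hy, h] at this
    omega
  haveI : (Subgroup.zpowers y).Normal :=
    Subgroup.normal_of_index_eq_minFac_card (by rw [hi, h]; norm_num)
  obtain ⟨j, hj⟩ := mem_powers_iff_mem_zpowers.2
    (Subgroup.Normal.conj_mem ‹_› y (Subgroup.mem_zpowers y) x)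
  have hj' : y ^ j = x * y * x⁻¹ := hj
  have h2 : y ^ (j * j * j) = y := by
    rw [pow_mul, pow_mul, hj', conj_pow, hj', conj_pow, conj_pow, hj']
    calc x * (x * (x * y * x⁻¹) * x⁻¹) * x⁻¹ = x ^ 3 * y * (x ^ 3)⁻¹ := by
          rw [pow_succ, pow_succ, pow_one]; group
      _ = y := by
        have hx3 : x ^ 3 = 1 := orderOf_dvd_iff_pow_eq_one.1 (dvd_of_eq hx)
        simp [hx3]
  have h3 : y ^ (j * j * j) = y ^ 1 := by rw [h2, pow_one]
  rw [pow_eq_pow_iff_modEq, hy, Nat.ModEq, Nat.mul_mod, Nat.mul_mod j j] at h3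
  have h4 : j % 5 = 1 := by
    have := Nat.mod_lt j (show 5 > 0 by norm_num)
    generalize j % 5 = r at this h3 ⊢
    interval_cases r <;> simp_all
  rw [← pow_mod_orderOf, hy, h4, pow_one] at hj'
  exact (mul_inv_eq_iff_eq_mul.1 hj'.symm)

/-- An involution moving the point to a noncollinear one swaps it with it; there are few of them. -/
theorem card_swap_le {p' : G ⧸ F.ND} (hne : p' ≠ F.pt 1) (hnc : ¬ F.Col (F.pt 1) p') :
    Nat.card {i : Invol G // (i : G) • F.pt 1 = p'} ≤ 5 := by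
  classical
  rcases isEmpty_or_nonempty {i : Invol G // (i : G) • F.pt 1 = p'} with he | ⟨⟨⟨u, hu⟩, hup⟩⟩
  · rw [Nat.card_of_isEmpty]; exact Nat.zero_le 5
  change u • F.pt 1 = p' at hup
  set X := MulAction.stabilizer G (F.pt 1) ⊓ MulAction.stabilizer G p' with hX
  have hsw : ∀ i : {i : Invol G // (i : G) • F.pt 1 = p'}, ((i.1 : Invol G) : G) • p' = F.pt 1 := fun i => by
    have h2 : ((i.1 : Invol G) : G) * i.1 = 1 := by
      rw [← pow_two]
      exact orderOf_dvd_iff_pow_eq_one.1 (dvd_of_eq i.1.2)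
    calc ((i.1 : Invol G) : G) • p' = ((i.1 : Invol G) : G) • ((i.1 : Invol G) : G) • F.pt 1 :=
          congrArg (fun q => ((i.1 : Invol G) : G) • q) i.2.symm
      _ = F.pt 1 := by rw [← mul_smul, h2, one_smul]
  have hu' : u • p' = F.pt 1 := hsw ⟨⟨u, hu⟩, hup⟩
  have hu2 : u * u = 1 := by rw [← pow_two, ← hu, pow_orderOf_eq_one]
  have huX : ∀ w ∈ X, u * w * u⁻¹ ∈ X := fun w hw => by
    have huinv : u⁻¹ = u := inv_eq_of_mul_eq_one_right hu2
    constructor
    · show (u * w * u⁻¹) • F.pt 1 = F.pt 1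
      rw [mul_smul, mul_smul, huinv, hup, hw.2, hu']
    · show (u * w * u⁻¹) • p' = p'
      rw [mul_smul, mul_smul, huinv, hu', hw.1, hup]
  have hodd : ¬ 2 ∣ Nat.card X := by
    intro h2
    haveI : Fact (Nat.Prime 2) := ⟨Nat.prime_two⟩
    obtain ⟨i, hi⟩ := exists_prime_orderOf_dvd_card' 2 h2
    have hio : orderOf (i : G) = 2 := by rw [Subgroup.orderOf_coe]; exact hi
    have hi2 : (i : G) * i = 1 := by rw [← pow_two, ← hio, pow_orderOf_eq_one]
    set j := u * (i : G) * u⁻¹ with hj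
    have hjX : j ∈ X := huX _ i.2
    set c := (i : G) * j with hc
    have hcX : c ∈ X := X.mul_mem i.2 hjX
    -- an involution `w` of `X` commuting with an element `x * u`, `x ∈ X`
    obtain ⟨w, x, hw, hwX, hxX, hcomm⟩ : ∃ w x : G, orderOf w = 2 ∧ w ∈ X ∧ x ∈ X ∧ (x * u) * w = w * (x * u) := by
      have hj2 : j * j = 1 := by rw [hj, conj_mul, hi2, mul_one, mul_inv_cancel]
      have hij : (i : G) * c * (i : G)⁻¹ = c⁻¹ := by
        rw [hc, mul_inv_rev, inv_eq_of_mul_eq_one_right hi2, inv_eq_of_mul_eq_one_right hj2, ← mul_assoc, hi2, one_mul]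
      have huc : u * c * u⁻¹ = c⁻¹ := by
        have huj : u * j * u⁻¹ = (i : G) := by
          rw [hj, inv_eq_of_mul_eq_one_right hu2]
          calc u * (u * (i : G) * u) * u = (u * u) * (i : G) * (u * u) := by group
            _ = _ := by rw [hu2, one_mul, mul_one]
        rw [hc, mul_inv_rev, inv_eq_of_mul_eq_one_right hi2, inv_eq_of_mul_eq_one_right hj2, ← conj_mul, ← hj, huj]
      rcases Nat.even_or_odd (orderOf c) with ⟨s, hs⟩ | ⟨s, hs⟩
      · have hw2 : orderOf (c ^ s) = 2 := by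
          have hpos := orderOf_pos c
          rw [orderOf_pow' c (by omega), Nat.gcd_eq_right ⟨2, by omega⟩, hs]
          exact Nat.div_eq_of_eq_mul_left (by omega) (by ring)
        refine ⟨c ^ s, 1, hw2, pow_mem hcX s, X.one_mem, ?_⟩
        rw [one_mul, ← mul_inv_eq_iff_eq_mul, ← conj_pow, huc, inv_pow]
        exact inv_eq_of_mul_eq_one_right (by rw [← pow_add, ← hs, pow_orderOf_eq_one])
      · refine ⟨i, (c ^ s)⁻¹, hio, i.2, X.inv_mem (pow_mem hcX s), ?_⟩
        have hci : (i : G) * c ^ s = (c ^ s)⁻¹ * i := by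
          rw [← mul_inv_eq_iff_eq_mul, ← conj_pow, hij, inv_pow]
        have hji : j = c ^ s * (i : G) * (c ^ s)⁻¹ := by
          have h1 : c ^ s * c ^ s * c = 1 := by
            rw [← pow_add, ← pow_succ, show s + s + 1 = orderOf c by omega, pow_orderOf_eq_one]
          have h2 : (i : G) * (c ^ s)⁻¹ = c ^ s * i := by
            calc (i : G) * (c ^ s)⁻¹ = c ^ s * ((c ^ s)⁻¹ * i) * (c ^ s)⁻¹ := by group
              _ = c ^ s * i := by rw [← hci]; group
          calc j = (i : G) * c := by rw [hc, ← mul_assoc, hi2, one_mul]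
            _ = (i : G) * ((c ^ s)⁻¹ * (c ^ s)⁻¹) := by
              congr 1
              rw [← mul_inv_rev]
              exact eq_inv_of_mul_eq_one_right h1
            _ = c ^ s * (i : G) * (c ^ s)⁻¹ := by rw [← mul_assoc, h2]
        calc (c ^ s)⁻¹ * u * (i : G) = (c ^ s)⁻¹ * j * u := by rw [hj]; group
          _ = (i : G) * ((c ^ s)⁻¹ * u) := by rw [hji]; group
    have hw1 : w ≠ 1 := fun e => by rw [e, orderOf_one] at hw; omega
    obtain ⟨g, hg⟩ := F.exists_flag hw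
    obtain ⟨hfp, hfl⟩ := F.fix_flag hw1 hg hcomm
    have hxu : (x * u) • F.pt 1 = p' := by rw [mul_smul, hup]; exact hxX.2
    rcases F.fix_pt hw hg (hwX.1 : w • F.pt 1 = F.pt 1) with h | h
    · rw [h, hxu] at hfp
      exact hne hfp
    · have h' := F.inc_smul h (x * u)
      rw [hxu, hfl] at h'
      exact hnc ⟨_, h, h'⟩
  have hXle : X ≤ F.ND := fun w hw => F.smul_pt_one.1 hw.1
  have hd : Nat.card X ∣ 15 := by
    have h1 : Nat.card X ∣ 2 ^ 6 * 15 := by
      have := Subgroup.card_dvd_of_le hXle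
      rw [F.card_N_D] at this
      exact this
    exact (Nat.Coprime.pow_right 6 ((Nat.prime_two.coprime_iff_not_dvd.2 hodd).symm)).dvd_of_dvd_mul_left h1
  have hX5 : Nat.card X ≤ 5 := by
    have hle := Nat.le_of_dvd (by norm_num) hd
    by_contra h5
    have h15 : Nat.card X = 15 := by interval_cases h : Nat.card X <;> omega
    obtain ⟨a, b, ha, hb, hab⟩ := exists_fifteen h15
    exact F.no_fifteen (hXle a.2) (hXle b.2) (by rw [Subgroup.orderOf_coe]; exact ha)
      (by rw [Subgroup.orderOf_coe]; exact hb) (congrArg Subtype.val hab)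
  refine le_trans (Nat.card_le_card_of_injective (β := X) (fun i => ⟨u * ((i.1 : Invol G) : G), ?_, ?_⟩) ?_) hX5
  · show (u * ((i.1 : Invol G) : G)) • F.pt 1 = F.pt 1
    rw [mul_smul, i.2, hu']
  · show (u * ((i.1 : Invol G) : G)) • p' = p'
    rw [mul_smul, hsw i, hup]
  · intro a b e
    exact Subtype.ext (Subtype.ext (mul_left_cancel (congrArg Subtype.val e)))

/-- The count. -/
theorem count : Nat.card (G ⧸ F.ND) = 21 ∧ ∀ p p' : G ⧸ F.ND, p ≠ p' → F.Col p p' := by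
  classical
  haveI := Fintype.ofFinite (G ⧸ F.ND)
  set p₀ := F.pt 1 with hp₀
  -- the three kinds of involutions
  let A : F.Flag → Prop := fun f => F.Inc p₀ f.1.2
  let B : F.Flag → Prop := fun f => ∃ l, F.Inc p₀ l ∧ F.Inc f.1.1 l ∧ f.1.1 ≠ p₀ ∧ f.1.2 ≠ l
  have hA : Nat.card {f : F.Flag // A f} ≤ 25 := by
    haveI := Fintype.ofFinite {l // F.Inc p₀ l}
    refine le_trans (Nat.card_le_card_of_injective
      (β := Σ l : {l // F.Inc p₀ l}, {p // F.Inc p l.1})
      (fun f => ⟨⟨f.1.1.2, f.2⟩, ⟨f.1.1.1, f.1.2⟩⟩) ?_) (le_of_eq ?_)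
    · rintro ⟨⟨⟨p, l⟩, hf⟩, h1⟩ ⟨⟨⟨p', l'⟩, hf'⟩, h1'⟩ e
      obtain rfl : l = l' := congrArg (fun x : (Σ l : {l // F.Inc p₀ l}, {p // F.Inc p l.1}) => x.1.1) e
      obtain rfl : p = p' := congrArg (fun x : (Σ l : {l // F.Inc p₀ l}, {p // F.Inc p l.1}) => x.2.1) e
      rfl
    · rw [Nat.card_sigma, Finset.sum_congr rfl (fun l _ => F.card_points l.1), Finset.sum_const,
        Finset.card_univ, ← Nat.card_eq_fintype_card, F.card_lines, smul_eq_mul]
  have hB : Nat.card {f : F.Flag // B f} ≤ 80 := by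
    haveI := Fintype.ofFinite {l // F.Inc p₀ l}
    haveI : ∀ l : {l // F.Inc p₀ l}, Fintype {p // F.Inc p l.1 ∧ p ≠ p₀} := fun l => Fintype.ofFinite _
    refine le_trans (Nat.card_le_card_of_injective
      (β := Σ l : {l // F.Inc p₀ l}, Σ p : {p // F.Inc p l.1 ∧ p ≠ p₀}, {l' // F.Inc p.1 l' ∧ l' ≠ l.1})
      (fun f => ⟨⟨f.2.choose, f.2.choose_spec.1⟩,
        ⟨f.1.1.1, f.2.choose_spec.2.1, f.2.choose_spec.2.2.1⟩,
        ⟨f.1.1.2, f.1.2, f.2.choose_spec.2.2.2⟩⟩) ?_) (le_of_eq ?_)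
    · intro f f' e
      have h1 := congrArg (fun x : (Σ l : {l // F.Inc p₀ l}, Σ p : {p // F.Inc p l.1 ∧ p ≠ p₀},
        {l' // F.Inc p.1 l' ∧ l' ≠ l.1}) => ((x.2.1.1 : G ⧸ F.ND), (x.2.2.1 : G ⧸ F.NE))) e
      exact Subtype.ext (Subtype.ext h1)
    · have hin : ∀ l : {l // F.Inc p₀ l}, Nat.card (Σ p : {p // F.Inc p l.1 ∧ p ≠ p₀},
          {l' // F.Inc p.1 l' ∧ l' ≠ l.1}) = 16 := fun l => by
        rw [Nat.card_sigma, Finset.sum_congr rfl (fun p _ => card_and_ne (P := fun l' => F.Inc p.1 l') (a := l.1) p.2.1 (F.card_lines p.1)),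
          Finset.sum_const, Finset.card_univ, ← Nat.card_eq_fintype_card, card_and_ne (P := fun p => F.Inc p l.1) (a := p₀) l.2 (F.card_points l.1),
          smul_eq_mul]
      rw [Nat.card_sigma, Finset.sum_congr rfl (fun l _ => hin l), Finset.sum_const, Finset.card_univ,
        ← Nat.card_eq_fintype_card, F.card_lines, smul_eq_mul]
  set N := {p // p ≠ p₀ ∧ ¬ F.Col p₀ p} with hN
  haveI : Fintype N := Fintype.ofFinite _
  have hC : Nat.card {i : Invol G // (i : G) • p₀ ≠ p₀ ∧ ¬ F.Col p₀ ((i : G) • p₀)} ≤ Nat.card N * 5 := by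
    refine le_trans (Nat.card_le_card_of_injective (β := Σ p : N, {i : Invol G // (i : G) • F.pt 1 = p.1})
      (fun i => ⟨⟨(i.1 : G) • p₀, i.2⟩, ⟨i.1, rfl⟩⟩) ?_) ?_
    · intro i i' e
      exact Subtype.ext (congrArg (fun x : (Σ p : N, {i : Invol G // (i : G) • F.pt 1 = p.1}) => x.2.1) e)
    · rw [Nat.card_sigma]
      refine le_trans (Finset.sum_le_sum fun p _ => F.card_swap_le p.2.1 p.2.2) (le_of_eq ?_)
      rw [Finset.sum_const, Finset.card_univ, ← Nat.card_eq_fintype_card, smul_eq_mul]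
  have hI : Nat.card (Invol G) ≤ Nat.card {f : F.Flag // A f} * 3 + Nat.card {f : F.Flag // B f} * 3 +
      Nat.card {i : Invol G // (i : G) • p₀ ≠ p₀ ∧ ¬ F.Col p₀ ((i : G) • p₀)} := by
    rw [← F.card_invol_flag A, ← F.card_invol_flag B, ← Nat.card_sum, ← Nat.card_sum]
    have key : ∀ i : Invol G, ¬ A (F.flag i) → ¬ B (F.flag i) →
        (i : G) • p₀ ≠ p₀ ∧ ¬ F.Col p₀ ((i : G) • p₀) := by
      intro i h1 h2
      set g := (F.exists_flag i.2).choose
      have hg := (F.exists_flag i.2).choose_spec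
      have hne : (i : G) • p₀ ≠ p₀ := fun h => h1 (((F.fix_pt_iff i.2 hg).1 h).elim
        (fun e => show F.Inc p₀ (F.ln g) from e ▸ F.inc_self g) id)
      refine ⟨hne, fun ⟨l, hl, hl'⟩ => ?_⟩
      have h2' : (i : G) * i = 1 := by
        rw [← pow_two]
        exact orderOf_dvd_iff_pow_eq_one.1 (dvd_of_eq i.2)
      have hil : (i : G) • l = l := F.line_unique hne
        (F.inc_smul hl i) (by have := F.inc_smul hl' i; rwa [← mul_smul, h2', one_smul] at this) hl' hl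
      rcases (F.fix_ln_iff i.2 hg).1 hil with h | h
      · exact h1 (show F.Inc p₀ (F.ln g) from h ▸ hl)
      · refine h2 ⟨l, hl, h, fun e => hne ((F.fix_pt_iff i.2 hg).2 (Or.inl e)), fun e => h1 ?_⟩
        exact (show F.Inc p₀ (F.ln g) from (show F.ln g = l from e) ▸ hl)
    refine Nat.card_le_card_of_injective (fun i => if h1 : A (F.flag i) then Sum.inl (Sum.inl ⟨i, h1⟩)
      else if h2 : B (F.flag i) then Sum.inl (Sum.inr ⟨i, h2⟩) else Sum.inr ⟨i, key i h1 h2⟩) ?_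
    intro i i' e
    simp only at e
    split_ifs at e <;> simp only [Sum.inl.injEq, Sum.inr.injEq, reduceCtorEq, Subtype.mk.injEq] at e <;> exact e
  have hP : Nat.card (G ⧸ F.ND) = 21 + Nat.card N := by
    have h1 := Nat.card_congr (Equiv.sumCompl fun p : G ⧸ F.ND => p = p₀)
    rw [Nat.card_sum, Nat.card_unique] at h1
    have h2 := Nat.card_congr (Equiv.sumCompl fun p : {p : G ⧸ F.ND // ¬ p = p₀} => F.Col p₀ p.1)
    rw [Nat.card_sum,
      Nat.card_congr (Equiv.subtypeSubtypeEquivSubtypeInter (fun p : G ⧸ F.ND => ¬ p = p₀) (fun p => F.Col p₀ p)),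
      Nat.card_congr (Equiv.subtypeSubtypeEquivSubtypeInter (fun p : G ⧸ F.ND => ¬ p = p₀) (fun p => ¬ F.Col p₀ p)),
      F.card_col p₀] at h2
    change 20 + Nat.card N = _ at h2
    omega
  rw [F.card_invol] at hI
  have hN0 : Nat.card N = 0 := by omega
  refine ⟨by omega, fun p p' hne => ?_⟩
  obtain ⟨a, rfl⟩ := QuotientGroup.mk_surjective p
  by_contra h
  rcases Nat.card_eq_zero.1 hN0 with he | hi
  swap
  · exact hi.not_finite inferInstance
  refine he.false ⟨a⁻¹ • p', fun e => hne ?_, fun ⟨l, h1, h2⟩ => h ⟨a • l, ?_, ?_⟩⟩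
  · rw [inv_smul_eq_iff.1 e]
    show F.pt a = F.pt (a * 1)
    rw [mul_one]
  · have := F.inc_smul h1 a
    rwa [show a • p₀ = F.pt a from congrArg F.pt (mul_one a)] at this
  · have := F.inc_smul h2 a
    rwa [smul_inv_smul] at this

include F in
theorem card_G : Nat.card G = 20160 := by
  rw [Subgroup.card_eq_card_quotient_mul_card_subgroup F.ND, F.count.1, F.card_N_D]

end Frame

end Cfsg.Agent.CITPlane
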