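/-
Pairs of radical subgroups of order 16 give frames.

* `Frame.ofPair`  : a pair with `q = 4` whose `T` is a Sylow 2-subgroup is a frame
* `psl_of_isPair` : so a simple CIT group with such a pair is `PSL₃(4)`
-/
import Cfsg.Agent.EqLemmas
import Cfsg.Agent.Lib.CITPlane.Model
import Cfsg.Agent.Lib.CIT.Master

set_option autoImplicit false

open Cfsg

namespace Cfsg.Agent.CITPlane

variable {G : Type*} [Group G] [Finite G] {D₁ D₂ T : Subgroup G}

/-- The frame of a pair. -/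
def Frame.ofPair (hG : CIT.IsCIT G) (P : CIT.IsPair D₁ D₂ T 4) (S : Sylow 2 G) (hS : (S : Subgroup G) = T) :
    Frame G where
  D := D₁
  E := D₂
  T := T
  cit := hG
  sylow := ⟨S, hS⟩
  card_D := by rw [P.el₁, P.nat₁.nat.card_W]; norm_num
  card_E := by rw [P.el₂, P.nat₂.nat.card_W]; norm_num
  card_T := by rw [P.card_T]; norm_num
  card_inf := by rw [P.inf_eq]; exact P.nat₂.nat.card_fix
  sq_D := fun _ hx => CIT.omegaZ_sq (P.el₁ ▸ hx)
  sq_E := fun _ hx => CIT.omegaZ_sq (P.el₂ ▸ hx)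
  D_le := P.rad₁.le
  E_le := P.rad₂.le
  T_le_D := P.rad₁.T_le
  T_le_E := P.rad₂.T_le
  fix_D := fun a ha haD d hd h => by
    have hc := P.nat₁.nat.fix a ha haD d (P.el₁ ▸ hd) h
    exact P.rad₂.centralizer_le hG (Subgroup.mem_centralizer_iff.2 fun x hx =>
      Subgroup.mem_centralizer_iff.1 hc x (P.rad₂.le hx))
  fix_E := fun a ha haE e he h => by
    have hc := P.nat₂.nat.fix a ha haE e (P.el₂ ▸ he) h
    have : e ∈ D₁ ⊓ D₂ := by rw [P.inf_eq]; exact ⟨P.el₂ ▸ he, hc⟩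
    exact this.1
  comm := fun z h1 h2 t ht => by
    have : z ∈ D₁ ⊓ D₂ := ⟨h1, h2⟩
    rw [P.inf_eq] at this
    exact Subgroup.mem_centralizer_iff.1 this.2 t ht
  card_N_D := by rw [P.nat₁.nat.card_N, P.el₁, P.nat₁.nat.card_W]; norm_num
  card_N_E := by rw [P.nat₂.nat.card_N, P.el₂, P.nat₂.nat.card_W]; norm_num
  not_normal_D := P.rad₁.not_normal
  not_normal_E := P.rad₂.not_normal

/-- A simple CIT group with a pair of order 16 is `PSL₃(4)`. -/
theorem psl_of_isPair [IsSimpleGroup G] (hG : CIT.IsCIT G) (P : CIT.IsPair D₁ D₂ T 4)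
    (hS : ∃ S : Sylow 2 G, (S : Subgroup G) = T) :
    ∃ (F : Type) (_ : Field F) (_ : Fintype F), Fintype.card F = 4 ∧
      Nonempty (G ≃* Matrix.ProjectiveSpecialLinearGroup (Fin 3) F) := by
  obtain ⟨S, hS⟩ := hS
  exact ⟨SU32.K4, inferInstance, inferInstance, SU32.K4.card_eq, (Frame.ofPair hG P S hS).nonempty_psl⟩

end Cfsg.Agent.CITPlane
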